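import Mathlib
import Cfsg.Agent.SLn.Unipotent
import Cfsg.Agent.SLn.Card

/-!
The group of upper unitriangular 3 by 3 matrices over the field of four elements, by generators and relations.
-/

set_option autoImplicit false

namespace CfsgLib.HeisFour

/-- The relations. -/
structure Gens {T : Type*} [Group T] (a a' b b' z z' : T) : Prop where
  sqa : a * a = 1
  sqa' : a' * a' = 1
  sqb : b * b = 1
  sqb' : b' * b' = 1
  sqz : z * z = 1
  sqz' : z' * z' = 1
  caa' : Commute a a'
  cbb' : Commute b b'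
  cz : ∀ t, Commute z t
  cz' : ∀ t, Commute z' t
  ba : b * a = a * b * z
  b'a : b' * a = a * b' * (z * z')
  ba' : b * a' = a' * b * (z * z')
  b'a' : b' * a' = a' * b' * z'

section Abstract

variable {T : Type*} [Group T] {a a' b b' z z' : T}

/-- The normal forms. -/
def nf (a a' b b' z z' : T) (p : Fin 2 × Fin 2 × Fin 2 × Fin 2 × Fin 2 × Fin 2) : T :=
  a ^ p.1.val * a' ^ p.2.1.val * b ^ p.2.2.1.val * b' ^ p.2.2.2.1.val * z ^ p.2.2.2.2.1.val * z' ^ p.2.2.2.2.2.val

theorem pow_fin {g : T} (hg : g * g = 1) (n : ℕ) : g ^ n = g ^ (Fin.ofNat 2 n).val := by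
  rw [Fin.val_ofNat]
  conv_lhs => rw [← Nat.div_add_mod n 2, pow_add, pow_mul, pow_two, hg, one_pow, one_mul]

theorem nf_of_nat (h : Gens a a' b b' z z') (i j k l m n : ℕ) :
    a ^ i * a' ^ j * b ^ k * b' ^ l * z ^ m * z' ^ n
      = nf a a' b b' z z' (Fin.ofNat 2 i, Fin.ofNat 2 j, Fin.ofNat 2 k, Fin.ofNat 2 l, Fin.ofNat 2 m, Fin.ofNat 2 n) := by
  rw [pow_fin h.sqa i, pow_fin h.sqa' j, pow_fin h.sqb k, pow_fin h.sqb' l, pow_fin h.sqz m, pow_fin h.sqz' n]
  rfl

theorem swap_central {x y c : T} (hc : ∀ t, Commute c t) (h : y * x = x * y * c) :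
    ∀ k : ℕ, y ^ k * x = x * y ^ k * c ^ k := by
  intro k
  induction k with
  | zero => simp
  | succ k ih =>
    calc y ^ (k + 1) * x = y * (y ^ k * x) := by rw [pow_succ', mul_assoc]
      _ = (y * x) * y ^ k * c ^ k := by rw [ih]; simp [mul_assoc]
      _ = x * y * (c * y ^ k) * c ^ k := by rw [h]; simp [mul_assoc]
      _ = x * y * (y ^ k * c) * c ^ k := by rw [(hc _).eq]
      _ = _ := by rw [pow_succ' c, pow_succ' y]; simp [mul_assoc]

theorem mem_range (h : Gens a a' b b' z z') {g : T}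
    (hg : g ∈ Submonoid.closure ({a, a', b, b', z, z'} : Set T)) :
    g ∈ Set.range (nf a a' b b' z z') := by
  induction hg using Submonoid.closure_induction_right with
  | one => exact ⟨(0, 0, 0, 0, 0, 0), by simp [nf]⟩
  | mul_right g _ x hx ih =>
    obtain ⟨⟨i, j, k, l, m, n⟩, rfl⟩ := ih
    have cc : ∀ (t : T) (r : ℕ), (z ^ r) * t = t * z ^ r := fun t r => ((h.cz t).pow_left r).eq
    have cc' : ∀ (t : T) (r : ℕ), (z' ^ r) * t = t * z' ^ r := fun t r => ((h.cz' t).pow_left r).eq
    have hzz : ∀ t, Commute (z * z') t := fun t => (h.cz t).mul_left (h.cz' t)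
    suffices ∃ i' j' k' l' m' n' : ℕ,
        nf a a' b b' z z' (i, j, k, l, m, n) * x = a ^ i' * a' ^ j' * b ^ k' * b' ^ l' * z ^ m' * z' ^ n' by
      obtain ⟨i', j', k', l', m', n', e⟩ := this
      exact ⟨_, (nf_of_nat h i' j' k' l' m' n').symm.trans e.symm⟩
    simp only [nf]
    simp only [Set.mem_insert_iff, Set.mem_singleton_iff] at hx
    have hout : ∀ x : T, a ^ i.val * a' ^ j.val * b ^ k.val * b' ^ l.val * z ^ m.val * z' ^ n.val * x
        = a ^ i.val * a' ^ j.val * b ^ k.val * b' ^ l.val * x * z ^ m.val * z' ^ n.val := by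
      intro x
      rw [mul_assoc _ (z' ^ n.val) x, cc' x, ← mul_assoc, mul_assoc _ (z ^ m.val) x, cc x, ← mul_assoc]
    rw [hout]
    rcases hx with rfl | rfl | rfl | rfl | rfl | rfl
    · refine ⟨i + 1, j, k, l, k + l + m, l + n, ?_⟩
      calc x ^ i.val * a' ^ j.val * b ^ k.val * b' ^ l.val * x * z ^ m.val * z' ^ n.val
          = x ^ i.val * a' ^ j.val * b ^ k.val * (b' ^ l.val * x) * z ^ m.val * z' ^ n.val := by
            simp only [mul_assoc]
        _ = x ^ i.val * a' ^ j.val * (b ^ k.val * x) * b' ^ l.val * (z * z') ^ l.val * z ^ m.val * z' ^ n.val := by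
            rw [swap_central hzz h.b'a]; simp only [mul_assoc]
        _ = x ^ i.val * (a' ^ j.val * x) * b ^ k.val * (z ^ k.val * b' ^ l.val) * (z * z') ^ l.val * z ^ m.val * z' ^ n.val := by
            rw [swap_central h.cz h.ba]; simp only [mul_assoc]
        _ = x ^ i.val * (x * a' ^ j.val) * b ^ k.val * (b' ^ l.val * z ^ k.val) * (z ^ l.val * z' ^ l.val) * z ^ m.val * z' ^ n.val := by
            rw [(h.caa'.pow_right j.val).symm.eq, cc, (h.cz z').mul_pow]
        _ = x ^ i.val * x * a' ^ j.val * b ^ k.val * b' ^ l.val * (z ^ k.val * z ^ l.val) * (z' ^ l.val * z ^ m.val) * z' ^ n.val := by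
            simp only [mul_assoc]
        _ = _ := by rw [cc' (z ^ m.val)]; simp only [pow_add, pow_succ, mul_assoc, pow_one]
    · refine ⟨i, j + 1, k, l, k + m, k + l + n, ?_⟩
      calc a ^ i.val * x ^ j.val * b ^ k.val * b' ^ l.val * x * z ^ m.val * z' ^ n.val
          = a ^ i.val * x ^ j.val * b ^ k.val * (b' ^ l.val * x) * z ^ m.val * z' ^ n.val := by
            simp only [mul_assoc]
        _ = a ^ i.val * x ^ j.val * (b ^ k.val * x) * b' ^ l.val * z' ^ l.val * z ^ m.val * z' ^ n.val := by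
            rw [swap_central h.cz' h.b'a']; simp only [mul_assoc]
        _ = a ^ i.val * x ^ j.val * x * b ^ k.val * ((z * z') ^ k.val * b' ^ l.val) * z' ^ l.val * z ^ m.val * z' ^ n.val := by
            rw [swap_central hzz h.ba']; simp only [mul_assoc]
        _ = a ^ i.val * x ^ j.val * x * b ^ k.val * (b' ^ l.val * (z ^ k.val * z' ^ k.val)) * z' ^ l.val * z ^ m.val * z' ^ n.val := by
            rw [((hzz (b' ^ l.val)).pow_left k.val).eq, (h.cz z').mul_pow]
        _ = a ^ i.val * x ^ j.val * x * b ^ k.val * b' ^ l.val * z ^ k.val * ((z' ^ k.val * z' ^ l.val) * z ^ m.val) * z' ^ n.val := by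
            simp only [mul_assoc]
        _ = _ := by rw [← pow_add, cc' (z ^ m.val)]; simp only [pow_add, pow_succ, mul_assoc, pow_one]
    · refine ⟨i, j, k + 1, l, m, n, ?_⟩
      rw [mul_assoc _ (b' ^ l.val) x, ((h.cbb'.symm).pow_left l.val).eq]
      simp only [pow_succ, mul_assoc]
    · exact ⟨i, j, k, l + 1, m, n, by simp only [pow_succ, mul_assoc]⟩
    · exact ⟨i, j, k, l, m + 1, n, by simp only [pow_succ', mul_assoc]⟩
    · refine ⟨i, j, k, l, m, n + 1, ?_⟩
      rw [mul_assoc _ x (z ^ m.val), ← cc x]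
      simp only [pow_succ', mul_assoc]

theorem nonempty_equiv {U : Type*} [Group U] [Finite T] [Finite U] {A A' B B' Z Z' : U}
    (h : Gens a a' b b' z z') (h' : Gens A A' B B' Z Z')
    (hgen : Subgroup.closure ({a, a', b, b', z, z'} : Set T) = ⊤) (hcard : Nat.card T = 64)
    (hgen' : Subgroup.closure ({A, A', B, B', Z, Z'} : Set U) = ⊤) (hcard' : Nat.card U = 64) :
    Nonempty (T ≃* U) := by
  let G : Set (T × U) := {(a, A), (a', A'), (b, B), (b', B'), (z, Z), (z', Z')}
  set K := Subgroup.closure G with hK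
  have hp : Gens (T := T × U) (a, A) (a', A') (b, B) (b', B') (z, Z) (z', Z') :=
    ⟨Prod.ext h.sqa h'.sqa, Prod.ext h.sqa' h'.sqa', Prod.ext h.sqb h'.sqb, Prod.ext h.sqb' h'.sqb',
      Prod.ext h.sqz h'.sqz, Prod.ext h.sqz' h'.sqz', Prod.ext h.caa' h'.caa', Prod.ext h.cbb' h'.cbb',
      fun t => Prod.ext (h.cz t.1) (h'.cz t.2), fun t => Prod.ext (h.cz' t.1) (h'.cz' t.2),
      Prod.ext h.ba h'.ba, Prod.ext h.b'a h'.b'a, Prod.ext h.ba' h'.ba', Prod.ext h.b'a' h'.b'a'⟩
  have hle : Nat.card K ≤ 64 := by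
    calc Nat.card K ≤ Nat.card (Set.range (nf (T := T × U) (a, A) (a', A') (b, B) (b', B') (z, Z) (z', Z'))) := by
          refine Nat.card_mono (Set.toFinite _) fun g hg => mem_range hp ?_
          rwa [SetLike.mem_coe, ← Subgroup.mem_toSubmonoid, hK, Subgroup.closure_toSubmonoid_of_finite] at hg
      _ ≤ Nat.card (Fin 2 × Fin 2 × Fin 2 × Fin 2 × Fin 2 × Fin 2) := Finite.card_range_le _
      _ = 64 := by simp
  let p₁ := (MonoidHom.fst T U).comp K.subtype
  let p₂ := (MonoidHom.snd T U).comp K.subtype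
  have hs₁ : Function.Surjective p₁ := by
    rw [← MonoidHom.range_eq_top, eq_top_iff, ← hgen, Subgroup.closure_le]
    intro g hg
    simp only [Set.mem_insert_iff, Set.mem_singleton_iff] at hg
    rcases hg with rfl | rfl | rfl | rfl | rfl | rfl <;>
      exact ⟨⟨(_, _), Subgroup.subset_closure (by simp only [G, Set.mem_insert_iff, Set.mem_singleton_iff]; tauto)⟩, rfl⟩
  have hs₂ : Function.Surjective p₂ := by
    rw [← MonoidHom.range_eq_top, eq_top_iff, ← hgen', Subgroup.closure_le]
    intro g hg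
    simp only [Set.mem_insert_iff, Set.mem_singleton_iff] at hg
    rcases hg with rfl | rfl | rfl | rfl | rfl | rfl <;>
      exact ⟨⟨(_, _), Subgroup.subset_closure (by simp only [G, Set.mem_insert_iff, Set.mem_singleton_iff]; tauto)⟩, rfl⟩
  have hb₁ : Function.Bijective p₁ := (Nat.bijective_iff_surjective_and_card _).2
    ⟨hs₁, le_antisymm (hle.trans hcard.ge) (Nat.card_le_card_of_surjective _ hs₁)⟩
  have hb₂ : Function.Bijective p₂ := (Nat.bijective_iff_surjective_and_card _).2
    ⟨hs₂, le_antisymm (hle.trans hcard'.ge) (Nat.card_le_card_of_surjective _ hs₂)⟩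
  exact ⟨(MulEquiv.ofBijective p₁ hb₁).symm.trans (MulEquiv.ofBijective p₂ hb₂)⟩

end Abstract

section Model

open Matrix Matrix.SpecialLinearGroup CfsgLib.SLn.Unip

variable {F : Type*} [Field F] [Fintype F]

theorem sylow_model (hF : Fintype.card F = 4) :
    ∃ S : Sylow 2 (ProjectiveSpecialLinearGroup (Fin 3) F),
      Nat.card (S : Subgroup (ProjectiveSpecialLinearGroup (Fin 3) F)) = 64 ∧
      ∃ a a' b b' z z' : ↥(S : Subgroup (ProjectiveSpecialLinearGroup (Fin 3) F)),
        Gens a a' b b' z z' ∧ Subgroup.closure ({a, a', b, b', z, z'} : Set ↥(S : Subgroup (ProjectiveSpecialLinearGroup (Fin 3) F))) = ⊤ := by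
  classical
  haveI : Fact (Nat.Prime 2) := ⟨Nat.prime_two⟩
  have h2 : (2 : F) = 0 := by
    have h4 : ((4 : ℕ) : F) = 0 := by rw [← hF]; simp
    have : (2 : F) * 2 = 0 := by norm_num; simpa using h4
    rcases mul_eq_zero.1 this with h | h <;> exact h
  haveI : CharP F 2 := (CharP.charP_iff_prime_eq_zero Nat.prime_two).2 (by exact_mod_cast h2)
  obtain ⟨w, hw0, hw1⟩ : ∃ w : F, w ≠ 0 ∧ w ≠ 1 := by
    by_contra h
    push Not at h
    have := Finset.card_le_card (show (Finset.univ : Finset F) ⊆ {0, 1} from fun x _ => by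
      by_cases hx : x = 0
      · simp [hx]
      · simp [h x hx])
    have h2 : ({0, 1} : Finset F).card ≤ 2 := Finset.card_le_two
    rw [Finset.card_univ, hF] at this
    omega
  have hw : w * w = w + 1 := by
    have h3 := FiniteField.pow_card_sub_one_eq_one w hw0
    rw [hF] at h3
    apply mul_left_cancel₀ (sub_ne_zero.2 hw1)
    linear_combination h3 + (1 - w * w) * h2
  have hall : ∀ c : F, c = 0 ∨ c = 1 ∨ c = w ∨ c = 1 + w := by
    have hnew : 1 + w ≠ 0 ∧ 1 + w ≠ 1 ∧ 1 + w ≠ w := by
      refine ⟨fun e => hw1 ?_, fun e => hw0 ?_, fun e => one_ne_zero (α := F) ?_⟩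
      · linear_combination e - h2
      · linear_combination e
      · linear_combination e
    have hs : ({0, 1, w, 1 + w} : Finset F).card = 4 := by
      rw [Finset.card_insert_of_notMem, Finset.card_insert_of_notMem, Finset.card_pair hnew.2.2.symm] <;>
        simp [hw0.symm, hw1.symm, hnew.1.symm, hnew.2.1.symm]
    have := Finset.eq_univ_of_card _ (hs.trans hF.symm)
    intro c
    simpa using this.ge (Finset.mem_univ c)
  let U := upperUni F 3
  obtain ⟨P, hP⟩ := exists_sylow_eq_upperUni (K := F) (n := 3) 2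
  have hcardSL : Nat.card (SpecialLinearGroup (Fin 3) F) = 60480 := by
    have h := CfsgLib.SLn.card_SL_eq F 3 (by norm_num)
    rw [hF, Fin.prod_univ_three] at h
    simp only [Fin.val_zero, Fin.val_one, Fin.val_two] at h
    norm_num at h
    rw [Nat.card_eq_fintype_card]
    omega
  have hU : Nat.card U = 64 := by
    obtain ⟨k, hk⟩ := IsPGroup.iff_card.1 P.isPGroup'
    have h1 := (P : Subgroup (SpecialLinearGroup (Fin 3) F)).card_mul_index
    have h3 := P.not_dvd_index
    rw [hcardSL, hk] at h1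
    have hk15 : k ≤ 15 := by
      by_contra hc
      have : 2 ^ 16 ≤ 2 ^ k := Nat.pow_le_pow_right (by norm_num) (by omega)
      have := Nat.le_mul_of_pos_right (2 ^ k) (Nat.pos_of_ne_zero fun e : (P : Subgroup (SpecialLinearGroup (Fin 3) F)).index = 0 => h3 (by rw [e]; exact dvd_zero 2))
      omega
    show Nat.card (upperUni F 3) = 64
    rw [← hP, hk]
    interval_cases k <;> omega
  have hπ : Function.Surjective (QuotientGroup.mk' (Subgroup.center (SpecialLinearGroup (Fin 3) F))) :=
    QuotientGroup.mk'_surjective _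
  refine ⟨P.mapSurjective hπ, ?_⟩
  have hmap : ((P.mapSurjective hπ : Sylow 2 _) : Subgroup (ProjectiveSpecialLinearGroup (Fin 3) F))
      = U.map (QuotientGroup.mk' _) := by rw [Sylow.coe_mapSurjective, hP]
  let f : ↥U →* ↥((P.mapSurjective hπ : Sylow 2 _) : Subgroup (ProjectiveSpecialLinearGroup (Fin 3) F)) :=
    MonoidHom.codRestrict ((QuotientGroup.mk' _).comp U.subtype) _ fun u => hmap.ge ⟨u, u.2, rfl⟩
  have hfs : Function.Surjective f := by
    rintro ⟨g, hg⟩
    obtain ⟨u, hu, rfl⟩ := hmap.le hg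
    exact ⟨⟨u, hu⟩, rfl⟩
  have hfi : Function.Injective f := by
    refine (injective_iff_map_eq_one f).2 fun u hu => Subtype.ext ?_
    have hc : (u : SpecialLinearGroup (Fin 3) F) ∈ Subgroup.center _ :=
      (QuotientGroup.eq_one_iff _).1 (congrArg Subtype.val hu)
    obtain ⟨k, hk⟩ := isPGroup_upperUni (K := F) (n := 3) 2 u
    exact center_eq_one_of_pow 2 hc k (congrArg Subtype.val hk)
  let e := MulEquiv.ofBijective f ⟨hfi, hfs⟩
  refine ⟨(Nat.card_congr e.toEquiv).symm.trans hU, ?_⟩
  have h01 : (0 : Fin 3) < 1 := by decide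
  have h12 : (1 : Fin 3) < 2 := by decide
  have h02 : (0 : Fin 3) < 2 := by decide
  let tA : F → ↥U := fun c => ⟨transvection h01.ne c, transvection_mem h01 c⟩
  let tB : F → ↥U := fun c => ⟨transvection h12.ne c, transvection_mem h12 c⟩
  let tC : F → ↥U := fun c => ⟨transvection h02.ne c, transvection_mem h02 c⟩
  have hext : ∀ g g' : ↥U, g.1.1 = g'.1.1 → g = g' := fun g g' h => Subtype.ext (Subtype.ext h)
  have hadd : ∀ c d, tA c * tA d = tA (c + d) ∧ tB c * tB d = tB (c + d) ∧ tC c * tC d = tC (c + d) := by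
    intro c d
    refine ⟨hext _ _ ?_, hext _ _ ?_, hext _ _ ?_⟩ <;>
    · simp only [tA, tB, tC, Subgroup.coe_mul, Matrix.SpecialLinearGroup.coe_mul, transvection_coe]
      ext i j; fin_cases i <;> fin_cases j <;>
        simp [Matrix.mul_apply, Fin.sum_univ_three, Matrix.one_apply, Matrix.single_apply, add_comm]
  have hswap : ∀ c d, tB d * tA c = tA c * tB d * tC (c * d) := by
    intro c d
    refine hext _ _ ?_
    simp only [tA, tB, tC, Subgroup.coe_mul, Matrix.SpecialLinearGroup.coe_mul, transvection_coe]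
    ext i j; fin_cases i <;> fin_cases j <;>
      simp [Matrix.mul_apply, Fin.sum_univ_three, Matrix.one_apply, Matrix.single_apply] <;>
      linear_combination -(c * d) * h2
  have hcent : ∀ (c : F) (g : ↥U), Commute (tC c) g := by
    intro c g
    refine hext _ _ ?_
    have h10 := upperUni_off g.2 (i := (1 : Fin 3)) (j := 0) (by decide)
    have h20 := upperUni_off g.2 (i := (2 : Fin 3)) (j := 0) (by decide)
    have h21 := upperUni_off g.2 (i := (2 : Fin 3)) (j := 1) (by decide)
    have h00 := upperUni_off g.2 (i := (0 : Fin 3)) (j := 0) (by decide)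
    have h22 := upperUni_off g.2 (i := (2 : Fin 3)) (j := 2) (by decide)
    simp at h10 h20 h21 h00 h22
    simp only [tC, Subgroup.coe_mul, Matrix.SpecialLinearGroup.coe_mul, transvection_coe]
    ext i j; fin_cases i <;> fin_cases j <;>
      simp [Matrix.mul_apply, Fin.sum_univ_three, Matrix.one_apply, Matrix.single_apply, h10, h20, h21, h00, h22, add_comm]
  have hzero : tA 0 = 1 ∧ tB 0 = 1 ∧ tC 0 = 1 := by
    refine ⟨hext _ _ ?_, hext _ _ ?_, hext _ _ ?_⟩ <;>
      simp [tA, tB, tC, transvection_coe]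
  have hdbl : ∀ c : F, c + c = 0 := fun c => by linear_combination c * h2
  have hU' : Gens (tA 1) (tA w) (tB 1) (tB w) (tC 1) (tC (1 + w)) :=
    { sqa := by rw [(hadd _ _).1, hdbl, hzero.1]
      sqa' := by rw [(hadd _ _).1, hdbl, hzero.1]
      sqb := by rw [(hadd _ _).2.1, hdbl, hzero.2.1]
      sqb' := by rw [(hadd _ _).2.1, hdbl, hzero.2.1]
      sqz := by rw [(hadd _ _).2.2, hdbl, hzero.2.2]
      sqz' := by rw [(hadd _ _).2.2, hdbl, hzero.2.2]
      caa' := by rw [Commute, SemiconjBy, (hadd _ _).1, (hadd _ _).1, add_comm]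
      cbb' := by rw [Commute, SemiconjBy, (hadd _ _).2.1, (hadd _ _).2.1, add_comm]
      cz := hcent 1
      cz' := hcent (1 + w)
      ba := by rw [hswap, one_mul]
      b'a := by rw [hswap, (hadd _ _).2.2, one_mul, show (1 : F) + (1 + w) = w by linear_combination h2]
      ba' := by rw [hswap, (hadd _ _).2.2, mul_one, show (1 : F) + (1 + w) = w by linear_combination h2]
      b'a' := by rw [hswap, hw, add_comm] }
  refine ⟨e (tA 1), e (tA w), e (tB 1), e (tB w), e (tC 1), e (tC (1 + w)),
    { sqa := by rw [← map_mul, hU'.sqa, map_one]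
      sqa' := by rw [← map_mul, hU'.sqa', map_one]
      sqb := by rw [← map_mul, hU'.sqb, map_one]
      sqb' := by rw [← map_mul, hU'.sqb', map_one]
      sqz := by rw [← map_mul, hU'.sqz, map_one]
      sqz' := by rw [← map_mul, hU'.sqz', map_one]
      caa' := hU'.caa'.map e.toMonoidHom
      cbb' := hU'.cbb'.map e.toMonoidHom
      cz := fun t => by obtain ⟨g, rfl⟩ := e.surjective t; exact (hU'.cz g).map e.toMonoidHom
      cz' := fun t => by obtain ⟨g, rfl⟩ := e.surjective t; exact (hU'.cz' g).map e.toMonoidHom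
      ba := by rw [← map_mul, hU'.ba, map_mul, map_mul]
      b'a := by rw [← map_mul, hU'.b'a, map_mul, map_mul, map_mul]
      ba' := by rw [← map_mul, hU'.ba', map_mul, map_mul, map_mul]
      b'a' := by rw [← map_mul, hU'.b'a', map_mul, map_mul] }, ?_⟩
  set K := Subgroup.closure ({tA 1, tA w, tB 1, tB w, tC 1, tC (1 + w)} : Set ↥U) with hK
  have hKtop : K = ⊤ := by
    have hm : ∀ x ∈ ({tA 1, tA w, tB 1, tB w, tC 1, tC (1 + w)} : Set ↥U), x ∈ K :=
      fun x hx => Subgroup.subset_closure hx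
    have hA : ∀ c, tA c ∈ K := by
      intro c
      rcases hall c with rfl | rfl | rfl | rfl
      · rw [hzero.1]; exact K.one_mem
      · exact hm _ (by simp)
      · exact hm _ (by simp)
      · rw [← (hadd _ _).1]; exact K.mul_mem (hm _ (by simp)) (hm _ (by simp))
    have hB : ∀ c, tB c ∈ K := by
      intro c
      rcases hall c with rfl | rfl | rfl | rfl
      · rw [hzero.2.1]; exact K.one_mem
      · exact hm _ (by simp)
      · exact hm _ (by simp)
      · rw [← (hadd _ _).2.1]; exact K.mul_mem (hm _ (by simp)) (hm _ (by simp))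
    have hC : ∀ c, tC c ∈ K := by
      intro c
      rcases hall c with rfl | rfl | rfl | rfl
      · rw [hzero.2.2]; exact K.one_mem
      · exact hm _ (by simp)
      · have e : tC c = tC 1 * tC (1 + c) := by
          rw [(hadd _ _).2.2, show (1 : F) + (1 + c) = c by linear_combination h2]
        rw [e]; exact K.mul_mem (hm _ (by simp)) (hm _ (by simp))
      · exact hm _ (by simp)
    rw [eq_top_iff]
    intro g _
    have hle : U ≤ K.map U.subtype := by
      refine upperUni_le_closure.trans ((Subgroup.closure_le _).2 ?_)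
      rintro _ ⟨a, b, hab, c, rfl⟩
      fin_cases a <;> fin_cases b <;> first
        | exact absurd hab (by decide)
        | exact ⟨_, hA c, rfl⟩
        | exact ⟨_, hB c, rfl⟩
        | exact ⟨_, hC c, rfl⟩
    obtain ⟨k, hk, hkg⟩ := hle g.2
    exact (Subtype.ext hkg : k = g) ▸ hk
  have := congrArg (Subgroup.map e.toMonoidHom) hKtop
  rw [hK, MonoidHom.map_closure, Subgroup.map_top_of_surjective e.toMonoidHom e.surjective] at this
  simp only [Set.image_insert_eq, Set.image_singleton] at this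
  exact this

end Model

end CfsgLib.HeisFour
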