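import Mathlib
import Cfsg.Agent.HeisFour.Model

/-!
Non-abelian groups of order 64 with a fixed point free automorphism of order 3.
-/

set_option autoImplicit false

namespace CfsgLib.HeisFour

open scoped commutatorElement

variable {T : Type*} [Group T] [Finite T]

/-- An automorphism of order dividing three without nontrivial fixed points. -/
structure Fpf (ρ : MulAut T) : Prop where
  cube : ∀ t, ρ (ρ (ρ t)) = t
  fixed : ∀ t, ρ t = t → t = 1

variable {ρ : MulAut T}

theorem Fpf.prod_eq (h : Fpf ρ) (t : T) : t * ρ t * ρ (ρ t) = 1 := by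
  have hinj : Function.Injective fun s : T => s⁻¹ * ρ s := by
    intro s u e
    have e' : s⁻¹ * ρ s = u⁻¹ * ρ u := e
    have : ρ (s * u⁻¹) = s * u⁻¹ := by
      rw [map_mul, map_inv]
      calc ρ s * (ρ u)⁻¹ = s * (s⁻¹ * ρ s) * (ρ u)⁻¹ := by group
        _ = _ := by rw [e']; group
    exact mul_inv_eq_one.1 (h.fixed _ this)
  obtain ⟨s, rfl⟩ := (Finite.injective_iff_surjective.1 hinj) t
  show s⁻¹ * ρ s * ρ (s⁻¹ * ρ s) * ρ (ρ (s⁻¹ * ρ s)) = 1
  simp only [map_mul, map_inv, h.cube]
  group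

theorem Fpf.two_eq (h : Fpf ρ) (t : T) : ρ (ρ t) = (t * ρ t)⁻¹ :=
  eq_inv_of_mul_eq_one_right (h.prod_eq t)

theorem Fpf.commute (h : Fpf ρ) (t : T) : Commute t (ρ t) := by
  have h1 := h.two_eq t
  have h2 := h.two_eq t⁻¹
  simp only [map_inv, mul_inv_rev, inv_inv] at h1 h2
  show t * ρ t = ρ t * t
  have : ((ρ t)⁻¹ * t⁻¹)⁻¹ = ρ t * t := by rw [← h1, h2]
  simpa using this

/-- Invariance. -/
def Inv (ρ : MulAut T) (N : Subgroup T) : Prop := ∀ t ∈ N, ρ t ∈ N

theorem Fpf.descend (h : Fpf ρ) {N : Subgroup T} (hN : Inv ρ N) {t : T} (ht : t⁻¹ * ρ t ∈ N) : t ∈ N := by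
  let f : N → N := fun s => ⟨(s : T)⁻¹ * ρ s, N.mul_mem (N.inv_mem s.2) (hN s s.2)⟩
  have hinj : Function.Injective f := by
    intro s u e
    have e' : (s : T)⁻¹ * ρ s = (u : T)⁻¹ * ρ u := congrArg Subtype.val e
    have : ρ ((s : T) * (u : T)⁻¹) = (s : T) * (u : T)⁻¹ := by
      rw [map_mul, map_inv]
      calc ρ s * (ρ u)⁻¹ = s * ((s : T)⁻¹ * ρ s) * (ρ (u : T))⁻¹ := by group
        _ = _ := by rw [e']; group
    exact Subtype.ext (mul_inv_eq_one.1 (h.fixed _ this))
  obtain ⟨s, hs⟩ := (Finite.injective_iff_surjective.1 hinj) ⟨_, ht⟩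
  have e' : (s : T)⁻¹ * ρ s = t⁻¹ * ρ t := congrArg Subtype.val hs
  have : ρ (t * (s : T)⁻¹) = t * (s : T)⁻¹ := by
    rw [map_mul, map_inv]
    calc ρ t * (ρ s)⁻¹ = t * (t⁻¹ * ρ t) * (ρ (s : T))⁻¹ := by group
      _ = _ := by rw [← e']; group
  rw [mul_inv_eq_one.1 (h.fixed _ this)]
  exact s.2

theorem Fpf.card_mod (h : Fpf ρ) {N : Subgroup T} (hN : Inv ρ N) : Nat.card N % 3 = 1 := by
  classical
  haveI : Fintype N := Fintype.ofFinite N
  haveI : Fact (Nat.Prime 3) := ⟨Nat.prime_three⟩
  let σ : Equiv.Perm N :=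
    { toFun := fun s => ⟨ρ s, hN s s.2⟩
      invFun := fun s => ⟨ρ (ρ s), hN _ (hN s s.2)⟩
      left_inv := fun s => Subtype.ext (h.cube s)
      right_inv := fun s => Subtype.ext (h.cube s) }
  have hσ : σ ^ 3 ^ 1 = 1 := by
    refine Equiv.ext fun s => Subtype.ext ?_
    show ρ (ρ (ρ (s : T))) = s
    exact h.cube s
  have h1 := Equiv.Perm.card_compl_support_modEq hσ
  have h2 : σ.supportᶜ = {1} := by
    ext s
    simp only [Finset.mem_compl, Equiv.Perm.mem_support, not_not, Finset.mem_singleton]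
    constructor
    · exact fun e => Subtype.ext (h.fixed _ (congrArg Subtype.val e))
    · rintro rfl; exact Subtype.ext (map_one ρ)
  rw [h2, Finset.card_singleton, ← Nat.card_eq_fintype_card] at h1
  exact h1.symm

theorem Fpf.card_cases (h : Fpf ρ) (hT : Nat.card T = 64) {N : Subgroup T} (hN : Inv ρ N) :
    Nat.card N = 1 ∨ Nat.card N = 4 ∨ Nat.card N = 16 ∨ Nat.card N = 64 := by
  obtain ⟨k, hk, e⟩ := (Nat.dvd_prime_pow Nat.prime_two).1
    ((Subgroup.card_subgroup_dvd_card N).trans (dvd_of_eq (by rw [hT]; norm_num)) : Nat.card N ∣ 2 ^ 6)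
  have := h.card_mod hN
  rw [e] at this ⊢
  interval_cases k <;> simp_all

theorem Fpf.inv_sup_pair (h : Fpf ρ) {N : Subgroup T} (hN : Inv ρ N) (t : T) :
    Inv ρ (N ⊔ Subgroup.closure ({t, ρ t} : Set T)) := by
  set M := N ⊔ Subgroup.closure ({t, ρ t} : Set T)
  have hle : M ≤ M.comap ρ.toMonoidHom := by
    refine sup_le (fun s hs => Subgroup.mem_sup_left (hN s hs)) ((Subgroup.closure_le _).2 ?_)
    intro s hs
    show ρ s ∈ M
    rcases hs with rfl | hs
    · exact Subgroup.mem_sup_right (Subgroup.subset_closure (by simp))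
    · rw [Set.mem_singleton_iff.1 hs, h.two_eq]
      exact M.inv_mem (M.mul_mem (Subgroup.mem_sup_right (Subgroup.subset_closure (by simp)))
        (Subgroup.mem_sup_right (Subgroup.subset_closure (by simp))))
  exact fun s hs => hle hs

theorem Fpf.card_lt_sup (h : Fpf ρ) (hT : Nat.card T = 64) {N : Subgroup T} (hN : Inv ρ N) {t : T}
    (ht : t ∉ N) (h4 : 4 ≤ Nat.card N) :
    16 ≤ Nat.card ↥(N ⊔ Subgroup.closure ({t, ρ t} : Set T)) ∧
      (16 ≤ Nat.card N → N ⊔ Subgroup.closure ({t, ρ t} : Set T) = ⊤) := by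
  have hlt : Nat.card N < Nat.card ↥(N ⊔ Subgroup.closure ({t, ρ t} : Set T)) := by
    refine lt_of_not_ge fun hge => ht ?_
    rw [Subgroup.eq_of_le_of_card_ge le_sup_left hge]
    exact Subgroup.mem_sup_right (Subgroup.subset_closure (by simp))
  rcases h.card_cases hT (h.inv_sup_pair hN t) with e | e | e | e
  · omega
  · omega
  · exact ⟨by omega, fun h16 => absurd hlt (by omega)⟩
  · exact ⟨by omega, fun _ => Subgroup.eq_top_of_card_eq _ (by rw [e, hT])⟩

variable (h : Fpf ρ) (hT : Nat.card T = 64) (hna : ¬ IsMulCommutative T)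

include h hT hna

theorem inv_center : Inv ρ (Subgroup.center T) := by
  intro z hz
  rw [Subgroup.mem_center_iff] at hz ⊢
  intro g
  obtain ⟨g, rfl⟩ := ρ.surjective g
  rw [← map_mul, ← map_mul, hz]

theorem card_center : Nat.card (Subgroup.center T) = 4 := by
  haveI : Fact (Nat.Prime 2) := ⟨Nat.prime_two⟩
  haveI : Nontrivial T := Finite.one_lt_card_iff_nontrivial.1 (by omega)
  have hne : Subgroup.center T ≠ ⊥ :=
    (Subgroup.nontrivial_iff_ne_bot _).1 (IsPGroup.of_card (p := 2) (n := 6) (by rw [hT]; norm_num)).center_nontrivial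
  rcases h.card_cases hT (inv_center h hT hna) with e | e | e | e
  · exact absurd (Subgroup.card_eq_one.1 e) hne
  · exact e
  · exfalso
    obtain ⟨t, ht⟩ : ∃ t, t ∉ Subgroup.center T := by
      by_contra hc
      push Not at hc
      exact hna ⟨⟨fun a b => (Subgroup.mem_center_iff.1 (hc b) a)⟩⟩
    have htop := (h.card_lt_sup hT (inv_center h hT hna) ht (by omega)).2 (by omega)
    apply ht
    rw [Subgroup.mem_center_iff]
    intro g
    have : g ∈ Subgroup.centralizer ({t} : Set T) := by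
      refine (sup_le (Subgroup.center_le_centralizer _) ((Subgroup.closure_le _).2 ?_)) (htop.ge (Subgroup.mem_top g))
      rintro s (rfl | hs)
      · exact Subgroup.mem_centralizer_singleton_iff.2 rfl
      · rw [Set.mem_singleton_iff.1 hs]
        exact Subgroup.mem_centralizer_singleton_iff.2 (h.commute t).symm.eq
    exact Subgroup.mem_centralizer_singleton_iff.1 this
  · exact absurd (Subgroup.eq_top_of_card_eq _ (by rw [e, hT]))
      (fun e' => hna ⟨⟨fun a b => Subgroup.mem_center_iff.1 (e'.ge (Subgroup.mem_top b)) a⟩⟩)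

theorem center_sq {z : T} (hz : z ∈ Subgroup.center T) : z * z = 1 := by
  set Z := Subgroup.center T
  have h4 : orderOf z ∣ 4 := card_center h hT hna ▸ Subgroup.orderOf_dvd_natCard Z hz
  by_contra hne
  have ho : orderOf z = 4 := by
    have h1 : ¬ orderOf z ∣ 2 := fun e => hne (by rw [← pow_two]; exact orderOf_dvd_iff_pow_eq_one.1 e)
    have := Nat.le_of_dvd (by norm_num) h4
    interval_cases orderOf z <;> omega
  have hZ : Subgroup.zpowers z = Z :=
    Subgroup.eq_of_le_of_card_ge (Subgroup.zpowers_le.2 hz) (by rw [Nat.card_zpowers, ho, card_center h hT hna])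
  have hm : ρ (z * z) ∈ Subgroup.zpowers z := hZ.ge (inv_center h hT hna _ (Z.mul_mem hz hz))
  obtain ⟨n, hn⟩ := mem_powers_iff_mem_zpowers.2 hm
  change z ^ n = ρ (z * z) at hn
  have hz4 : z ^ 4 = 1 := ho ▸ pow_orderOf_eq_one z
  have h22 : ρ (z * z) * ρ (z * z) = 1 := by
    rw [← map_mul, show z * z * (z * z) = z ^ 4 by simp [pow_succ, mul_assoc], hz4, map_one]
  rw [← hn, ← pow_add] at h22
  have hd := orderOf_dvd_of_pow_eq_one h22
  rw [ho] at hd
  rw [← pow_mod_orderOf, ho] at hn
  have : n % 4 = 0 ∨ n % 4 = 2 := by omega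
  rcases this with e | e <;> rw [e] at hn
  · exact hne ((EmbeddingLike.map_eq_one_iff).1 (by rw [← hn, pow_zero]))
  · exact hne (h.fixed _ (by rw [← hn, pow_two]))

theorem commutator_mem (s t : T) : ⁅s, t⁆ ∈ Subgroup.center T := by
  set Z := Subgroup.center T
  set W := (Subgroup.center (T ⧸ Z)).comap (QuotientGroup.mk' Z) with hW
  suffices W = ⊤ by
    have ht : t ∈ W := this.ge (Subgroup.mem_top t)
    rw [← QuotientGroup.eq_one_iff]
    show (QuotientGroup.mk' Z) ⁅s, t⁆ = 1
    rw [map_commutatorElement, commutatorElement_eq_one_iff_mul_comm]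
    exact Subgroup.mem_center_iff.1 ht _
  have hinv : Inv ρ W := by
    intro w hw
    rw [hW, Subgroup.mem_comap, Subgroup.mem_center_iff] at hw ⊢
    intro q
    obtain ⟨g, rfl⟩ := QuotientGroup.mk'_surjective Z q
    obtain ⟨g, rfl⟩ := ρ.surjective g
    rw [← commutatorElement_eq_one_iff_mul_comm, ← map_commutatorElement, ← map_commutatorElement,
      QuotientGroup.mk'_apply, QuotientGroup.eq_one_iff]
    refine inv_center h hT hna _ ?_
    rw [← QuotientGroup.eq_one_iff]
    show (QuotientGroup.mk' Z) ⁅g, w⁆ = 1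
    rw [map_commutatorElement, commutatorElement_eq_one_iff_mul_comm]
    exact hw _
  have hZW : Z ≤ W := by
    intro z hz
    rw [hW, Subgroup.mem_comap, QuotientGroup.mk'_apply, (QuotientGroup.eq_one_iff z).2 hz]
    exact Subgroup.one_mem _
  have hlt : 4 < Nat.card W := by
    haveI : Fact (Nat.Prime 2) := ⟨Nat.prime_two⟩
    have hq : IsPGroup 2 (T ⧸ Z) := (IsPGroup.of_card (n := 6) (by rw [hT]; norm_num)).to_quotient Z
    haveI : Nontrivial (T ⧸ Z) := by
      refine Finite.one_lt_card_iff_nontrivial.1 ?_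
      have := Subgroup.card_eq_card_quotient_mul_card_subgroup Z
      rw [hT, card_center h hT hna] at this
      omega
    haveI := hq.center_nontrivial
    obtain ⟨q, hq', hq1⟩ := Subgroup.exists_ne_one_of_nontrivial (Subgroup.center (T ⧸ Z))
    obtain ⟨g, rfl⟩ := QuotientGroup.mk'_surjective Z q
    have hgZ : g ∉ Z := fun hg => hq1 ((QuotientGroup.eq_one_iff g).2 hg)
    refine lt_of_not_ge fun hle => hgZ ?_
    rw [Subgroup.eq_of_le_of_card_ge hZW (by rw [card_center h hT hna]; exact hle)]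
    exact hq'
  rcases h.card_cases hT hinv with e | e | e | e
  · omega
  · omega
  · by_contra hne
    obtain ⟨u, hu⟩ : ∃ u, u ∉ W := by
      by_contra hc
      push Not at hc
      exact hne (eq_top_iff.2 fun x _ => hc x)
    have htop := (h.card_lt_sup hT hinv hu (by omega)).2 (by omega)
    apply hu
    rw [hW, Subgroup.mem_comap, Subgroup.mem_center_iff]
    intro q
    obtain ⟨g, rfl⟩ := QuotientGroup.mk'_surjective Z q
    set cu := (Subgroup.centralizer ({QuotientGroup.mk' Z u} : Set (T ⧸ Z))).comap (QuotientGroup.mk' Z)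
    have : g ∈ cu := by
      refine (sup_le (fun w hw => ?_) ((Subgroup.closure_le _).2 ?_)) (htop.ge (Subgroup.mem_top g))
      · exact Subgroup.center_le_centralizer _ hw
      · rintro s (rfl | hs)
        · exact Subgroup.mem_centralizer_singleton_iff.2 rfl
        · rw [Set.mem_singleton_iff.1 hs]
          exact Subgroup.mem_centralizer_singleton_iff.2 ((h.commute u).symm.map (QuotientGroup.mk' Z)).eq
    exact Subgroup.mem_centralizer_singleton_iff.1 this
  · exact Subgroup.eq_top_of_card_eq _ (by rw [e, hT])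

theorem sq_mem (t : T) : t * t ∈ Subgroup.center T := by
  set Z := Subgroup.center T
  by_contra hne
  have htZ : t ∉ Z := fun ht => hne (Z.mul_mem ht ht)
  set V := Z ⊔ Subgroup.closure ({t, ρ t} : Set T)
  have hV := (h.card_lt_sup hT (inv_center h hT hna) htZ (card_center h hT hna).ge).1
  have hV16 : Nat.card V = 16 := by
    rcases h.card_cases hT (h.inv_sup_pair (inv_center h hT hna) t) with e | e | e | e
    · exact absurd e (by omega)
    · exact absurd e (by omega)
    · exact e
    · exfalso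
      apply htZ
      rw [Subgroup.mem_center_iff]
      intro g
      have : g ∈ Subgroup.centralizer ({t} : Set T) := by
        refine (sup_le (Subgroup.center_le_centralizer _) ((Subgroup.closure_le _).2 ?_))
          ((Subgroup.eq_top_of_card_eq V (by rw [e, hT])).ge (Subgroup.mem_top g))
        rintro s (rfl | hs)
        · exact Subgroup.mem_centralizer_singleton_iff.2 rfl
        · rw [Set.mem_singleton_iff.1 hs]
          exact Subgroup.mem_centralizer_singleton_iff.2 (h.commute t).symm.eq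
      exact Subgroup.mem_centralizer_singleton_iff.1 this
  set π := QuotientGroup.mk' Z
  have hcardV : Nat.card (V.map π) = 4 := by
    have e := (π.comp V.subtype).ker.card_mul_index
    rw [Subgroup.index_ker, MonoidHom.range_comp, Subgroup.range_subtype, hV16] at e
    have ek : Nat.card (π.comp V.subtype).ker = 4 := by
      rw [MonoidHom.ker, ← card_center h hT hna]
      refine Nat.card_congr ⟨fun s => ⟨(s : V), ?_⟩, fun s => ⟨⟨s, Subgroup.mem_sup_left s.2⟩, ?_⟩,
        fun s => rfl, fun s => rfl⟩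
      · exact (QuotientGroup.eq_one_iff _).1 s.2
      · exact (QuotientGroup.eq_one_iff (s : T)).2 s.2
    rw [ek] at e
    omega
  have hmem : ∀ s ∈ V, π s ∈ V.map π := fun s hs => ⟨s, hs, rfl⟩
  have htV : t ∈ V := Subgroup.mem_sup_right (Subgroup.subset_closure (by simp))
  have hρV : ρ t ∈ V := Subgroup.mem_sup_right (Subgroup.subset_closure (by simp))
  have ho : orderOf (π t) = 4 := by
    have hd : orderOf (π t) ∣ 4 := hcardV ▸ Subgroup.orderOf_dvd_natCard _ (hmem t htV)
    have h1 : ¬ orderOf (π t) ∣ 2 := fun e => hne (by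
      rw [← QuotientGroup.eq_one_iff]
      show π (t * t) = 1
      rw [map_mul, ← pow_two]; exact orderOf_dvd_iff_pow_eq_one.1 e)
    have := Nat.le_of_dvd (by norm_num) hd
    interval_cases orderOf (π t) <;> omega
  have hz : Subgroup.zpowers (π t) = V.map π :=
    Subgroup.eq_of_le_of_card_ge (Subgroup.zpowers_le.2 (hmem t htV)) (by rw [Nat.card_zpowers, ho, hcardV])
  obtain ⟨n, hn⟩ := mem_powers_iff_mem_zpowers.2 (hz.ge (hmem _ hρV))
  change π t ^ n = π (ρ t) at hn
  rw [← pow_mod_orderOf, ho, ← map_pow, QuotientGroup.mk'_apply, QuotientGroup.mk'_apply, QuotientGroup.eq] at hn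
  have hlt : n % 4 < 4 := Nat.mod_lt _ (by norm_num)
  have hne' : ρ t ∉ Z := fun e => htZ (by
    have := inv_center h hT hna _ (inv_center h hT hna _ e); rwa [h.cube] at this)
  interval_cases hh : n % 4
  · exact hne' (by simpa using hn)
  · exact htZ (h.descend (inv_center h hT hna) (by simpa using hn))
  · have h4 : t ^ 4 ∈ Z := by
      rw [← QuotientGroup.eq_one_iff]
      show π (t ^ 4) = 1
      rw [map_pow, ← ho, pow_orderOf_eq_one]
    refine hne (h.descend (inv_center h hT hna) ?_)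
    -- `ρ t` would have order two modulo the centre
    have h5 : ρ t * ρ t ∈ Z := by
      have e : π (ρ t) = π t ^ 2 := by
        rw [← map_pow, QuotientGroup.mk'_apply, QuotientGroup.mk'_apply, eq_comm, QuotientGroup.eq]
        exact hn
      rw [← QuotientGroup.eq_one_iff]
      show π (ρ t * ρ t) = 1
      rw [map_mul, e, ← pow_add, ← map_pow, QuotientGroup.mk'_apply, QuotientGroup.eq_one_iff]
      exact h4
    have h6 : t * t ∈ Z := by
      have := inv_center h hT hna _ (inv_center h hT hna _ h5)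
      simp only [map_mul, h.cube] at this
      exact this
    exact absurd h6 hne
  · have h4 : t ^ 4 ∈ Z := by
      rw [← QuotientGroup.eq_one_iff]
      show π (t ^ 4) = 1
      rw [map_pow, ← ho, pow_orderOf_eq_one]
    have h7 : t * ρ t ∈ Z := by
      have := Z.mul_mem h4 hn
      rwa [show t ^ 4 * ((t ^ 3)⁻¹ * ρ t) = t * ρ t by group] at this
    have h8 : ρ (ρ t) ∈ Z := by rw [h.two_eq]; exact Z.inv_mem h7
    have := inv_center h hT hna _ h8
    rw [h.cube] at this
    exact htZ this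

theorem comm_symm (s t : T) : ⁅t, s⁆ = ⁅s, t⁆ := by
  rw [← commutatorElement_inv s t]
  exact inv_eq_of_mul_eq_one_right (center_sq h hT hna (commutator_mem h hT hna s t))

theorem comm_mul_left (r s t : T) : ⁅r * s, t⁆ = ⁅r, t⁆ * ⁅s, t⁆ := by
  have hc := Subgroup.mem_center_iff.1 (commutator_mem h hT hna s t)
  have e : ⁅r * s, t⁆ = r * ⁅s, t⁆ * r⁻¹ * ⁅r, t⁆ := by simp only [commutatorElement_def]; group
  rw [e, hc r, mul_inv_cancel_right, ← hc]

theorem comm_mul_right (r s t : T) : ⁅r, s * t⁆ = ⁅r, s⁆ * ⁅r, t⁆ := by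
  rw [comm_symm h hT hna (s * t) r, comm_mul_left h hT hna, comm_symm h hT hna r s, comm_symm h hT hna r t]

theorem comm_inv_right (r s : T) : ⁅r, s⁻¹⁆ = ⁅r, s⁆ := by
  have := comm_mul_right h hT hna r s s⁻¹
  rw [mul_inv_cancel, commutatorElement_one_right] at this
  rw [eq_inv_of_mul_eq_one_right this.symm]
  exact inv_eq_of_mul_eq_one_right (center_sq h hT hna (commutator_mem h hT hna r s))

theorem comm_rho_two (r s : T) : ⁅r, ρ (ρ s)⁆ = ⁅r, s⁆ * ⁅r, ρ s⁆ := by
  rw [h.two_eq, comm_inv_right h hT hna, comm_mul_right h hT hna]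

theorem center_rho_two {z : T} (hz : z ∈ Subgroup.center T) : ρ (ρ z) = z * ρ z := by
  rw [h.two_eq]
  exact inv_eq_of_mul_eq_one_right
    (center_sq h hT hna ((Subgroup.center T).mul_mem hz (inv_center h hT hna _ hz)))

theorem sq_mul (s t : T) : s * t * (s * t) = s * s * (t * t) * ⁅t, s⁆ := by
  have hc := Subgroup.mem_center_iff.1 (commutator_mem h hT hna t s)
  calc s * t * (s * t) = s * (⁅t, s⁆ * (s * t)) * t := by simp only [commutatorElement_def]; group
    _ = s * ((s * t) * ⁅t, s⁆) * t := by rw [hc (s * t)]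
    _ = s * s * t * (⁅t, s⁆ * t) := by group
    _ = _ := by rw [← hc t]; group

theorem table (a b : T) :
    ⁅a, ρ b⁆ = ρ (ρ ⁅a, b⁆) ∧ ⁅ρ a, b⁆ = ρ (ρ ⁅a, b⁆) ∧ ⁅ρ a, ρ b⁆ = ρ ⁅a, b⁆ := by
  have hg := commutator_mem h hT hna a b
  set g := ⁅a, b⁆
  set e := ⁅a, ρ b⁆
  set e' := ⁅ρ a, b⁆
  have hgg : ⁅ρ a, ρ b⁆ = ρ g := (map_commutatorElement ρ a b).symm
  have he : e ∈ Subgroup.center T := commutator_mem h hT hna _ _
  have he' : e' ∈ Subgroup.center T := commutator_mem h hT hna _ _
  have h1 : ρ e = e' * ρ g := by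
    show ρ ⁅a, ρ b⁆ = _
    rw [map_commutatorElement, comm_rho_two h hT hna, hgg]
  have h2 : ρ e' = e * ρ g := by
    show ρ ⁅ρ a, b⁆ = _
    rw [map_commutatorElement, comm_symm h hT hna (ρ b) (ρ (ρ a)), comm_rho_two h hT hna,
      comm_symm h hT hna a (ρ b), comm_symm h hT hna (ρ a) (ρ b), hgg]
  have hρg := inv_center h hT hna _ hg
  have h3 : e' = ρ e * ρ g := by rw [h1, mul_assoc, center_sq h hT hna hρg, mul_one]
  have h4 : ρ (ρ e) * ρ (ρ g) = e * ρ g := by rw [← map_mul, ← h3, h2]
  rw [center_rho_two h hT hna he, center_rho_two h hT hna hg] at h4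
  have h5 : ρ e * g = 1 := by
    have h4' : e * ρ g * (ρ e * g) = e * ρ g * 1 := by
      rw [mul_one]
      conv_rhs => rw [← h4]
      have := Subgroup.mem_center_iff.1 (inv_center h hT hna _ he)
      rw [mul_assoc, ← mul_assoc (ρ g), this (ρ g), mul_assoc, Subgroup.mem_center_iff.1 hg (ρ g)]
      simp only [mul_assoc]
    exact mul_left_cancel h4'
  have h6 : ρ e = g := by
    rw [eq_inv_of_mul_eq_one_left h5]
    exact inv_eq_of_mul_eq_one_right (center_sq h hT hna hg)
  refine ⟨?_, ?_, hgg⟩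
  · show e = _
    rw [← h6, h.cube]
  · show e' = _
    rw [h3, h6, center_rho_two h hT hna hg]

theorem gens_of_involutions {a b : T} (ha : a * a = 1) (hb : b * b = 1) (hab : ⁅a, b⁆ ≠ 1) :
    Gens a (ρ a) b (ρ b) ⁅a, b⁆ (ρ ⁅a, b⁆) ∧
      Subgroup.closure ({a, ρ a, b, ρ b, ⁅a, b⁆, ρ ⁅a, b⁆} : Set T) = ⊤ := by
  obtain ⟨t1, t2, t3⟩ := table h hT hna a b
  have hg := commutator_mem h hT hna a b
  set g := ⁅a, b⁆
  have hρg := inv_center h hT hna _ hg
  have hswap : ∀ s t : T, t * s = s * t * ⁅s, t⁆ := by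
    intro s t
    rw [Subgroup.mem_center_iff.1 (commutator_mem h hT hna s t) (s * t), ← comm_symm h hT hna s t]
    simp only [commutatorElement_def]; group
  refine ⟨⟨ha, by rw [← map_mul, ha, map_one], hb, by rw [← map_mul, hb, map_one],
    center_sq h hT hna hg, center_sq h hT hna hρg, h.commute a, h.commute b,
    fun t => ((Subgroup.mem_center_iff.1 hg t).symm), fun t => ((Subgroup.mem_center_iff.1 hρg t).symm),
    hswap a b, ?_, ?_, ?_⟩, ?_⟩
  · rw [hswap a (ρ b), t1, center_rho_two h hT hna hg]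
  · rw [hswap (ρ a) b, t2, center_rho_two h hT hna hg]
  · rw [hswap (ρ a) (ρ b), t3]
  set M := Subgroup.closure ({a, ρ a, b, ρ b, g, ρ g} : Set T)
  have hm : ∀ s ∈ ({a, ρ a, b, ρ b, g, ρ g} : Set T), s ∈ M := fun s hs => Subgroup.subset_closure hs
  have hMinv : Inv ρ M := by
    have hle : M ≤ M.comap ρ.toMonoidHom := (Subgroup.closure_le _).2 fun s hs => by
      show ρ s ∈ M
      simp only [Set.mem_insert_iff, Set.mem_singleton_iff] at hs
      rcases hs with rfl | rfl | rfl | rfl | rfl | rfl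
      · exact hm _ (by simp)
      · rw [h.two_eq]; exact M.inv_mem (M.mul_mem (hm _ (by simp)) (hm _ (by simp)))
      · exact hm _ (by simp)
      · rw [h.two_eq]; exact M.inv_mem (M.mul_mem (hm _ (by simp)) (hm _ (by simp)))
      · exact hm _ (by simp)
      · rw [h.two_eq]; exact M.inv_mem (M.mul_mem (hm _ (by simp)) (hm _ (by simp)))
    exact fun s hs => hle hs
  have hZM : Subgroup.center T ≤ M := by
    have hi : Inv ρ (Subgroup.center T ⊓ M) := fun s hs => ⟨inv_center h hT hna s hs.1, hMinv s hs.2⟩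
    have hge : 4 ≤ Nat.card ↥(Subgroup.center T ⊓ M) := by
      rcases h.card_cases hT hi with e | e | e | e
      · exact absurd (Subgroup.mem_bot.1 ((Subgroup.card_eq_one.1 e).le ⟨hg, hm g (by simp)⟩)) hab
      all_goals omega
    exact inf_eq_left.1 (Subgroup.eq_of_le_of_card_ge inf_le_left (by rw [card_center h hT hna]; exact hge))
  have haZ : a ∉ Subgroup.center T := fun ha' =>
    hab (commutatorElement_eq_one_iff_mul_comm.2 (Subgroup.mem_center_iff.1 ha' b).symm)
  set V := Subgroup.center T ⊔ Subgroup.closure ({a, ρ a} : Set T)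
  have hV : 16 ≤ Nat.card V := (h.card_lt_sup hT (inv_center h hT hna) haZ (card_center h hT hna).ge).1
  have hVM : V ≤ M := sup_le hZM (Subgroup.closure_mono (by simp [Set.insert_subset_iff]))
  have hbV : b ∉ V := by
    intro hbV
    have hle : V ≤ Subgroup.centralizer ({a} : Set T) := by
      refine sup_le (Subgroup.center_le_centralizer _) ((Subgroup.closure_le _).2 ?_)
      rintro s (rfl | hs)
      · exact Subgroup.mem_centralizer_singleton_iff.2 rfl
      · rw [Set.mem_singleton_iff.1 hs]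
        exact Subgroup.mem_centralizer_singleton_iff.2 (h.commute a).symm.eq
    exact hab (commutatorElement_eq_one_iff_mul_comm.2 (Subgroup.mem_centralizer_singleton_iff.1 (hle hbV)).symm)
  have hlt : Nat.card V < Nat.card M := lt_of_not_ge fun hge =>
    hbV (Subgroup.eq_of_le_of_card_ge hVM hge ▸ hm b (by simp))
  rcases h.card_cases hT hMinv with e | e | e | e
  · omega
  · omega
  · omega
  · exact Subgroup.eq_top_of_card_eq _ (by rw [e, hT])

end CfsgLib.HeisFour
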